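import Groth.Agent.SymMult.Tensor
import Groth.Agent.HTopAwn.SchemeProps
import Groth.Agent.HTopAwn.Base
import Mathlib.FieldTheory.PurelyInseparable.Basic

/-! Descending a pointwise defined element along a finite universal homeomorphism. -/

set_option autoImplicit false
set_option linter.unusedSectionVars false

universe u

open AlgebraicGeometry CategoryTheory Polynomial
open Groth.Agent.MorLib Groth.Agent.MorLib.RUH Groth.Agent.HTopAwn HTop

namespace Groth.Agent.SymMult

theorem isPurelyInseparable_residueField {C C' : Type u} [CommRing C] [CommRing C'] {φ : C →+* C'} (hr : Radicial φ)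
    (q : Ideal C') [q.IsPrime] [Algebra (q.comap φ).ResidueField q.ResidueField]
    (halg : ∀ c, algebraMap (q.comap φ).ResidueField q.ResidueField (algebraMap C _ c) = algebraMap C' _ (φ c)) :
    IsPurelyInseparable (q.comap φ).ResidueField q.ResidueField := by
  refine isPurelyInseparable_of_finSepDegree_eq_one ?_
  haveI : Subsingleton (Field.Emb (q.comap φ).ResidueField q.ResidueField) := ⟨fun f g => by
    refine AlgHom.coe_ringHom_injective (Ideal.ResidueField.ringHom_ext ?_)
    refine hr _ _ _ (RingHom.ext fun c => ?_)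
    show f (algebraMap C' _ (φ c)) = g (algebraMap C' _ (φ c))
    rw [← halg, f.commutes, g.commutes]⟩
  exact Nat.card_unique

theorem pow_finrank_mem {k K : Type*} [Field k] [Field K] [Algebra k K] [FiniteDimensional k K]
    [IsPurelyInseparable k K] (p e : ℕ) (hp : p.Prime) [ExpChar k p] (he : Module.finrank k K = p ^ e) (y : K) :
    y ^ p ^ e ∈ (algebraMap k K).range := by
  obtain ⟨m, c, hm⟩ := IsPurelyInseparable.minpoly_eq_X_pow_sub_C k p y
  have hdeg := minpoly.natDegree_le (A := k) y
  rw [hm, natDegree_X_pow_sub_C, he] at hdeg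
  obtain ⟨l, rfl⟩ := Nat.exists_eq_add_of_le ((Nat.pow_le_pow_iff_right hp.one_lt).1 hdeg)
  have h0 := minpoly.aeval k y
  rw [hm, map_sub, map_pow, aeval_X, aeval_C, sub_eq_zero] at h0
  exact ⟨c ^ p ^ l, by rw [map_pow, ← h0, ← pow_mul, ← pow_add]⟩

section Descent

variable {C C' : Type u} [CommRing C] [CommRing C'] [Algebra C C']

theorem mem_range_of_pointwise (hC : IsSeminormalRing C) [IsReduced C'] (hi : (algebraMap C C').IsIntegral)
    (hu : FlatMor.IsUnivHomeo (Spec.map (CommRingCat.ofHom (algebraMap C C')))) (z : C')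
    (hz : ∀ q : PrimeSpectrum C', ∃ a s : C, algebraMap C C' s ∉ q.asIdeal ∧
      algebraMap C C' s * z - algebraMap C C' a ∈ q.asIdeal) :
    z ∈ (algebraMap C C').range := by
  obtain ⟨-, hr, hsurj⟩ := (isUnivHomeo_SpecMap_iff _).1 hu
  haveI : IsReduced C := isReduced_of_seminormal hC
  have hinj : Function.Injective (algebraMap C C') := by
    rw [injective_iff_map_eq_zero]
    intro c hc
    have hmem : c ∈ nilradical C := by
      rw [nilradical_eq_sInf]
      refine Ideal.mem_sInf.2 fun {P} hP => ?_
      obtain ⟨q, hq⟩ := hsurj ⟨P, hP⟩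
      have : c ∈ q.asIdeal.comap (algebraMap C C') := by
        rw [Ideal.mem_comap, hc]
        exact q.asIdeal.zero_mem
      rwa [show q.asIdeal.comap (algebraMap C C') = P from congrArg PrimeSpectrum.asIdeal hq] at this
    exact IsReduced.eq_zero c hmem
  let D : Subalgebra C C' := Algebra.adjoin C {z}
  let ι : D →+* C' := D.val.toRingHom
  have hιint : ι.IsIntegral := RingHom.IsIntegral.tower_top (algebraMap C D) _ (fun x => hi x)
  have hint : (algebraMap C D).IsIntegral := fun (x : D) =>
    (isIntegral_algHom_iff (A := D) D.val Subtype.val_injective).mp (hi x.1)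
  have hDinj : Function.Injective (algebraMap C D) := fun a a' h => hinj (congrArg Subtype.val h)
  haveI : IsReduced D := isReduced_of_injective ι Subtype.val_injective
  have hu' : FlatMor.IsUnivHomeo (Spec.map (CommRingCat.ofHom (algebraMap C D))) := by
    refine (isUnivHomeo_SpecMap_iff _).2 ⟨hint, fun K _ g₁ g₂ hg => ?_, hint.comap_surjective hDinj⟩
    have hlift : ∀ g : D →+* K, ∃ θ : C' →+* AlgebraicClosure K,
        θ.comp ι = (algebraMap K (AlgebraicClosure K)).comp g := fun g => by
      obtain ⟨q, hq⟩ := hιint.comap_surjective Subtype.val_injective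
        ⟨_, RingHom.ker_isPrime ((algebraMap K (AlgebraicClosure K)).comp g)⟩
      exact exists_extension ι hιint _ ⟨q, congrArg PrimeSpectrum.asIdeal hq⟩
    obtain ⟨θ₁, h1⟩ := hlift g₁
    obtain ⟨θ₂, h2⟩ := hlift g₂
    have hθ : θ₁ = θ₂ := hr _ _ _ (by
      rw [show algebraMap C C' = ι.comp (algebraMap C D) from rfl, ← RingHom.comp_assoc, ← RingHom.comp_assoc, h1, h2,
        RingHom.comp_assoc, RingHom.comp_assoc, hg])
    refine RingHom.ext fun d => (algebraMap K (AlgebraicClosure K)).injective ?_
    rw [← RingHom.comp_apply, ← RingHom.comp_apply, ← h1, ← h2, hθ]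
  have hbij := bijective_of_seminormal hC (algebraMap C D) hDinj hu' fun q => by
    rw [residueFieldMap_surjective_iff]
    obtain ⟨q', hq'⟩ := hιint.comap_surjective Subtype.val_injective q
    have hqmem : ∀ d : D, d ∈ q.asIdeal ↔ d.1 ∈ q'.asIdeal := fun d => by
      rw [← hq']
      rfl
    intro b
    simp only [hqmem]
    obtain ⟨b, hb⟩ := b
    show ∃ a s : C, algebraMap C C' s ∉ q'.asIdeal ∧ algebraMap C C' s * b - algebraMap C C' a ∈ q'.asIdeal
    induction hb using Algebra.adjoin_induction with
    | mem x hx => rw [Set.mem_singleton_iff.1 hx]; exact hz q'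
    | algebraMap c =>
      exact ⟨c, 1, by rw [map_one]; exact (Ideal.ne_top_iff_one _).1 q'.isPrime.ne_top, by simp⟩
    | add x y _ _ hx hy =>
      obtain ⟨a, s, hs, h⟩ := hx
      obtain ⟨a', s', hs', h'⟩ := hy
      refine ⟨a * s' + a' * s, s * s', by rw [map_mul]; exact fun h => (q'.isPrime.mem_or_mem h).elim hs hs', ?_⟩
      convert q'.asIdeal.add_mem (q'.asIdeal.mul_mem_left (algebraMap C C' s') h)
        (q'.asIdeal.mul_mem_left (algebraMap C C' s) h') using 1
      simp only [map_add, map_mul]
      ring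
    | mul x y _ _ hx hy =>
      obtain ⟨a, s, hs, h⟩ := hx
      obtain ⟨a', s', hs', h'⟩ := hy
      refine ⟨a * a', s * s', by rw [map_mul]; exact fun h => (q'.isPrime.mem_or_mem h).elim hs hs', ?_⟩
      convert q'.asIdeal.add_mem (q'.asIdeal.mul_mem_left (algebraMap C C' s' * y) h)
        (q'.asIdeal.mul_mem_left (algebraMap C C' a) h') using 1
      simp only [map_mul]
      ring
  obtain ⟨c, hc⟩ := hbij.2 ⟨z, Algebra.self_mem_adjoin_singleton C z⟩
  exact ⟨c, congrArg Subtype.val hc⟩

end Descent

theorem mul_symTensor_mem {A C C' B : Type u} [CommRing A] [CommRing C] [CommRing C'] [CommRing B]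
    [Algebra A C] [Algebra A C'] [Algebra A B] (hC : IsSeminormalRing C) (g : C →ₐ[A] C') [IsReduced C']
    (hfin : g.toRingHom.Finite) (hg : FlatMor.IsUnivHomeo (Spec.map (CommRingCat.ofHom g.toRingHom)))
    (d : ℕ) (hd : 0 < d) (hdeg : ∀ q : PrimeSpectrum C',
      @Module.finrank (PrimeSpectrum.comap g.toRingHom q).asIdeal.ResidueField q.asIdeal.ResidueField _ _
          (Ideal.ResidueField.map (PrimeSpectrum.comap g.toRingHom q).asIdeal q.asIdeal g.toRingHom
            rfl).toAlgebra.toModule ∣ d)
    (φ : B →ₐ[A] C') (x : PiTensorProduct A fun _ : Fin d => B) (hx : x ∈ SymTen.TS A B d) :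
    φ (PiTensorProduct.lift (MultilinearMap.mkPiAlgebra A (Fin d) B) x) ∈ g.range := by
  classical
  obtain ⟨-, hr, -⟩ := (isUnivHomeo_SpecMap_iff _).1 hg
  letI := g.toRingHom.toAlgebra
  haveI : IsScalarTower A C C' := IsScalarTower.of_algebraMap_eq fun a => (g.commutes a).symm
  haveI : Module.Finite C C' := hfin
  suffices h : φ (PiTensorProduct.lift (MultilinearMap.mkPiAlgebra A (Fin d) B) x) ∈ (algebraMap C C').range by
    obtain ⟨c, hc⟩ := h
    exact ⟨c, hc⟩
  refine mem_range_of_pointwise hC (Algebra.IsIntegral.isIntegral (R := C) (A := C')) hg _ fun q => ?_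
  let p := q.asIdeal.comap g.toRingHom
  haveI : p.IsPrime := Ideal.IsPrime.comap _
  let k := p.ResidueField
  let K := q.asIdeal.ResidueField
  let j : k →+* K := Ideal.ResidueField.map p q.asIdeal g.toRingHom rfl
  letI : Algebra k K := j.toAlgebra
  have hj : ∀ c : C, algebraMap k K (algebraMap C k c) = algebraMap C' K (g c) := fun c =>
    Ideal.ResidueField.map_algebraMap _ _ _ _ c
  haveI : IsScalarTower A k K := IsScalarTower.of_algebraMap_eq fun a => by
    rw [IsScalarTower.algebraMap_apply A C k, hj, IsScalarTower.algebraMap_apply A C' K, ← g.commutes]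
  haveI : IsPurelyInseparable k K := isPurelyInseparable_residueField hr q.asIdeal hj
  have hd' : Module.finrank k K ∣ d := hdeg q
  haveI hfk : FiniteDimensional k K := Module.finite_of_finrank_pos (Nat.pos_of_dvd_of_pos hd' hd)
  let ψ : B →ₐ[A] K := (IsScalarTower.toAlgHom A C' K).comp φ
  have key : ψ (PiTensorProduct.lift (MultilinearMap.mkPiAlgebra A (Fin d) B) x) ∈ (algebraMap k K).range := by
    haveI := ringExpChar.expChar k
    obtain ⟨e, he⟩ := IsPurelyInseparable.finrank_eq_pow (F := k) K (ringExpChar k)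
    rcases expChar_is_prime_or_one k (ringExpChar k) with hp | hp
    · haveI : Fact (ringExpChar k).Prime := ⟨hp⟩
      have hc : ∀ n, ExpChar k n → n.Prime → CharP k n := fun n h hn => by
        cases h with
        | zero => exact absurd hn Nat.not_prime_one
        | prime _ => assumption
      haveI : CharP k (ringExpChar k) := hc _ inferInstance hp
      haveI : CharP K (ringExpChar k) := charP_of_injective_algebraMap (algebraMap k K).injective _
      obtain ⟨r, hr'⟩ := hd'
      exact mult_mem_range (ringExpChar k) e r (fun y => pow_finrank_mem (ringExpChar k) e hp he y) ψ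
        (by rw [hr', he, mul_comm]) x hx
    · rw [hp, one_pow] at he
      have hbot : (⊥ : Subalgebra k K) = ⊤ := Subalgebra.bot_eq_top_of_finrank_eq_one he
      obtain ⟨c, hc⟩ := Algebra.mem_bot.1 (hbot ▸ (Algebra.mem_top : ψ
        (PiTensorProduct.lift (MultilinearMap.mkPiAlgebra A (Fin d) B) x) ∈ (⊤ : Subalgebra k K)))
      exact ⟨c, hc⟩
  obtain ⟨w, hw⟩ := key
  obtain ⟨a, s, hs, rfl⟩ := IsFractionRing.div_surjective (A := C ⧸ p) w
  obtain ⟨a, rfl⟩ := Ideal.Quotient.mk_surjective a
  obtain ⟨s, rfl⟩ := Ideal.Quotient.mk_surjective s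
  have hsp : s ∉ p := fun h => nonZeroDivisors.ne_zero hs (Ideal.Quotient.eq_zero_iff_mem.2 h)
  refine ⟨a, s, hsp, ?_⟩
  rw [← Ideal.algebraMap_residueField_eq_zero, map_sub, map_mul, sub_eq_zero]
  show algebraMap C' K (g s) * ψ (PiTensorProduct.lift (MultilinearMap.mkPiAlgebra A (Fin d) B) x) = algebraMap C' K (g a)
  rw [← hj, ← hj, ← hw, ← map_mul,
    show algebraMap C k s = algebraMap (C ⧸ p) k (Ideal.Quotient.mk p s) from IsScalarTower.algebraMap_apply C (C ⧸ p) k s,
    show algebraMap C k a = algebraMap (C ⧸ p) k (Ideal.Quotient.mk p a) from IsScalarTower.algebraMap_apply C (C ⧸ p) k a,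
    mul_div_cancel₀ _ (fun h => nonZeroDivisors.ne_zero hs (IsFractionRing.to_map_eq_zero_iff.1 h))]

end Groth.Agent.SymMult
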