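import Groth.Prelude.Def_SymTen
import Mathlib.LinearAlgebra.PiTensorProduct.Basis
import Mathlib.GroupTheory.Perm.Cycle.Type
import Mathlib.Algebra.CharP.Defs
import Mathlib.LinearAlgebra.Dimension.Finite
import Mathlib.FieldTheory.Finite.Basic

/-! Multiplying out a symmetric tensor of degree divisible by `q` lands in the field of `q`-th powers. -/

set_option autoImplicit false
set_option linter.unusedSectionVars false

universe u

open scoped TensorProduct
open PiTensorProduct
open scoped Fin.NatCast

namespace Groth.Agent.SymMult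

/-- Only fixed points of a `p`-power order permutation count in characteristic `p`. -/
theorem sum_eq_sum_fixed {R : Type*} [CommRing R] (p : ℕ) [Fact p.Prime] [CharP R p] {X : Type*} [Fintype X]
    [DecidableEq X] {e : ℕ} (σ : Equiv.Perm X) (hσ : σ ^ p ^ e = 1) (h : X → R) (hh : ∀ x, h (σ x) = h x) :
    ∑ x, h x = ∑ x with σ x = x, h x := by
  classical
  rw [← Finset.sum_fiberwise_of_maps_to (g := h) (fun x _ => Finset.mem_image_of_mem h (Finset.mem_univ x))]
  conv_rhs => rw [← Finset.sum_fiberwise_of_maps_to (g := h) (t := Finset.univ.image h)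
    (fun x _ => Finset.mem_image_of_mem h (Finset.mem_univ x))]
  refine Finset.sum_congr rfl fun v _ => ?_
  rw [Finset.sum_congr rfl (fun x hx => (Finset.mem_filter.1 hx).2 : ∀ x ∈ Finset.univ.filter fun x => h x = v, h x = v),
    Finset.sum_congr rfl (fun x hx => (Finset.mem_filter.1 hx).2 :
      ∀ x ∈ (Finset.univ.filter fun x => σ x = x).filter fun x => h x = v, h x = v),
    Finset.sum_const, Finset.sum_const, nsmul_eq_mul, nsmul_eq_mul]
  congr 1
  refine (CharP.natCast_eq_natCast R p).2 ?_
  let τ : Equiv.Perm {x // h x = v} := σ.subtypePerm fun x => by rw [hh x]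
  have hτ : τ ^ p ^ e = 1 := by
    simp only [τ, Equiv.Perm.subtypePerm_pow, hσ]
    exact Equiv.ext fun x => rfl
  have := Equiv.Perm.card_compl_support_modEq hτ
  rw [Fintype.card_subtype] at this
  refine Nat.ModEq.trans this.symm ?_
  rw [show τ.supportᶜ.card = ((Finset.univ.filter fun x => σ x = x).filter fun x => h x = v).card from ?_]
  refine Finset.card_bij (fun x _ => x.1) (fun x hx => ?_) (fun a _ b _ hab => Subtype.ext hab) fun x hx => ?_
  · simp only [Finset.mem_compl, Equiv.Perm.mem_support, not_not] at hx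
    simp only [Finset.mem_filter, Finset.mem_univ, true_and]
    exact ⟨congrArg Subtype.val hx, x.2⟩
  · simp only [Finset.mem_filter, Finset.mem_univ, true_and] at hx
    refine ⟨⟨x, hx.2⟩, ?_, rfl⟩
    simp only [Finset.mem_compl, Equiv.Perm.mem_support, not_not]
    exact Subtype.ext hx.1

variable {A k K : Type u} [CommRing A] [Field k] [Field K] [Algebra A k] [Algebra A K] [Algebra k K]
  [IsScalarTower A k K] {B : Type u} [CommRing B] [Algebra A B]

theorem mult_mem_range [FiniteDimensional k K] (p e r : ℕ) [Fact p.Prime] [CharP K p]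
    (hpow : ∀ y : K, y ^ p ^ e ∈ (algebraMap k K).range) (ψ : B →ₐ[A] K) {d : ℕ} (hd : d = r * p ^ e)
    (x : ⨂[A] _ : Fin d, B) (hx : x ∈ SymTen.TS A B d) :
    ψ (PiTensorProduct.lift (MultilinearMap.mkPiAlgebra A (Fin d) B) x) ∈ (algebraMap k K).range := by
  classical
  let q := p ^ e
  haveI : NeZero q := ⟨pow_ne_zero _ (Fact.out : p.Prime).ne_zero⟩
  let tl : (⨂[A] _ : Fin d, B) →ₗ[A] ⨂[k] _ : Fin d, K :=
    PiTensorProduct.lift (((PiTensorProduct.tprod k).restrictScalars A).compLinearMap fun _ => ψ.toLinearMap)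
  have htl : ∀ b : Fin d → B, tl (PiTensorProduct.tprod A b) = PiTensorProduct.tprod k fun i => ψ (b i) := fun b => by
    simp [tl]
  have hsymm : ∀ (σ : Equiv.Perm (Fin d)) (z : ⨂[A] _ : Fin d, B),
      tl (PiTensorProduct.reindex A (fun _ => B) σ z) = PiTensorProduct.reindex k (fun _ => K) σ (tl z) := by
    intro σ z
    induction z using PiTensorProduct.induction_on with
    | smul_tprod a b =>
      simp only [map_smul, PiTensorProduct.reindex_tprod, htl, LinearMap.map_smul_of_tower]
      rw [← IsScalarTower.algebraMap_smul k a, ← IsScalarTower.algebraMap_smul k a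
        (PiTensorProduct.tprod k fun i => ψ (b i)), map_smul, PiTensorProduct.reindex_tprod]
    | add y z hy hz => simp only [map_add, hy, hz]
  have hmult : ∀ z : ⨂[A] _ : Fin d, B,
      PiTensorProduct.lift (MultilinearMap.mkPiAlgebra k (Fin d) K) (tl z) =
        ψ (PiTensorProduct.lift (MultilinearMap.mkPiAlgebra A (Fin d) B) z) := by
    intro z
    induction z using PiTensorProduct.induction_on with
    | smul_tprod a b =>
      simp only [map_smul, htl, LinearMap.map_smul_of_tower, PiTensorProduct.lift.tprod, MultilinearMap.mkPiAlgebra_apply,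
        map_prod]
    | add y z hy hz => simp only [map_add, hy, hz]
  rw [← hmult]
  let β := Module.finBasis k K
  let Bs := Basis.piTensorProduct fun _ : Fin d => β
  have hrepr : ∀ (σ : Equiv.Perm (Fin d)) (z : ⨂[k] _ : Fin d, K) (f : Fin d → Fin (Module.finrank k K)),
      Bs.repr (PiTensorProduct.reindex k (fun _ => K) σ z) f = Bs.repr z (f ∘ σ) := by
    intro σ z f
    induction z using PiTensorProduct.induction_on with
    | smul_tprod a b =>
      simp only [map_smul, PiTensorProduct.reindex_tprod, Finsupp.smul_apply, Bs,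
        Basis.piTensorProduct_repr_tprod_apply]
      congr 1
      exact Fintype.prod_equiv σ.symm _ _ fun i => by simp
    | add y z hy hz => simp only [map_add, Finsupp.add_apply, hy, hz]
  let c := fun f => Bs.repr (tl x) f
  have hc : ∀ (σ : Equiv.Perm (Fin d)) f, c (f ∘ σ) = c f := fun σ f => by
    show Bs.repr (tl x) (f ∘ σ) = Bs.repr (tl x) f
    rw [← hrepr, ← hsymm, hx σ]
  have hsum : PiTensorProduct.lift (MultilinearMap.mkPiAlgebra k (Fin d) K) (tl x) =
      ∑ f, c f • ∏ i, β (f i) := by
    conv_lhs => rw [← Bs.sum_repr (tl x)]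
    simp [Bs, c]
  rw [hsum]
  let E : Fin r × Fin q ≃ Fin d := finProdFinEquiv.trans (finCongr hd.symm)
  let π : Equiv.Perm (Fin d) := E.permCongr ((Equiv.refl (Fin r)).prodCongr (Equiv.addRight (1 : Fin q)))
  let τ : Equiv.Perm (Fin d → Fin (Module.finrank k K)) := Equiv.arrowCongr π.symm (Equiv.refl _)
  have hτf : ∀ f, τ f = f ∘ π := fun f => rfl
  have hπn : ∀ (m : ℕ) (b : Fin r) (j : Fin q), (π ^ m) (E (b, j)) = E (b, j + (m : Fin q)) := by
    intro m
    induction m with
    | zero => intro b j; simp
    | succ m ih =>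
      intro b j
      rw [pow_succ', Equiv.Perm.mul_apply, ih]
      simp [π, Equiv.permCongr_apply, add_assoc]
  have hπ : π ^ q = 1 := Equiv.ext fun i => by
    obtain ⟨⟨b, j⟩, rfl⟩ := E.surjective i
    rw [hπn]
    simp
  have hτn : ∀ (m : ℕ) f, (τ ^ m) f = f ∘ ⇑(π ^ m) := by
    intro m
    induction m with
    | zero => intro f; simp
    | succ m ih =>
      intro f
      rw [pow_succ, Equiv.Perm.mul_apply, ih, hτf, pow_succ']
      rfl
  have hτ : τ ^ p ^ e = 1 := Equiv.ext fun f => by
    rw [hτn, show π ^ p ^ e = 1 from hπ]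
    rfl
  rw [sum_eq_sum_fixed p τ hτ (fun f => c f • ∏ i, β (f i)) fun f => by
    show c (τ f) • ∏ i, β (τ f i) = c f • ∏ i, β (f i)
    rw [hτf, hc]
    congr 1
    exact Fintype.prod_equiv π _ _ fun i => rfl]
  refine Subring.sum_mem _ fun f hf => ?_
  rw [Algebra.smul_def]
  refine Subring.mul_mem _ ⟨_, rfl⟩ ?_
  have hfix : ∀ i, f (π i) = f i := fun i => congrFun ((hτf f).symm.trans (Finset.mem_filter.1 hf).2) i
  have hconst : ∀ (b : Fin r) (j : Fin q), f (E (b, j)) = f (E (b, 0)) := fun b j => by
    have : ∀ (m : ℕ) i, f ((π ^ m) i) = f i := fun m => by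
      induction m with
      | zero => intro i; simp
      | succ m ih => intro i; rw [pow_succ', Equiv.Perm.mul_apply, hfix, ih]
    rw [← this j.val (E (b, 0)), hπn, zero_add, Fin.cast_val_eq_self]
  rw [← E.prod_comp fun i => β (f i), Fintype.prod_prod_type]
  refine Subring.prod_mem _ fun b _ => ?_
  rw [Finset.prod_congr rfl fun j _ => congrArg β (hconst b j), Finset.prod_const, Finset.card_univ, Fintype.card_fin]
  exact hpow _

end Groth.Agent.SymMult
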